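import Groth.Agent.Lib.RefHull.RegNormal
import Groth.Agent.Lib.Modules.LocalSections

/-!
# A subsheaf of a reflexive module with torsion free quotient is normal
-/

universe u

noncomputable section

open CategoryTheory AlgebraicGeometry TopologicalSpace Opposite

namespace Groth.Agent.H15.NormalSub.Basic

open Groth.Agent.Lib Groth.Agent.Lib.RefHull Groth.Agent.Lib.RefHull.Generic

variable {X : Scheme.{u}}

open Groth.Agent.Lib.TensorMod.Dual (rs)

theorem exists_lift {S : ShortComplex X.Modules} (hS : S.ShortExact) {U : X.Opens} (n : Γ(S.X₂, U))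
    (hn : S.g.app U n = 0) : ∃ m : Γ(S.X₁, U), S.f.app U m = n := by
  have := hS.mono_f
  choose W hW m hxW hm using fun y : U =>
    Modules.LocalSections.exists_preimage_of_exact (f := S.f) (g := S.g) hS.exact n hn y.2
  obtain ⟨s, hs⟩ := SecHom.exists_glue U (fun y => S.X₁.presheaf.germ (W y) y.1 (hxW y) (m y))
    fun x => ⟨W x, hxW x, hW x, m x, fun y => by
      let z : U := ⟨y.1, hW x y.2⟩
      have e : rs S.X₁ (inf_le_left : W x ⊓ W z ≤ W x) (m x) =
          rs S.X₁ (inf_le_right : W x ⊓ W z ≤ W z) (m z) := by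
        refine Modules.LocalSections.app_injective S.f _ ?_
        rw [Modules.TensorSec.app_rs, Modules.TensorSec.app_rs, hm, hm]
        refine SecHom.sec_ext fun w hw => ?_
        rw [SecHom.germ_rs, SecHom.germ_rs, SecHom.germ_rs, SecHom.germ_rs]
      have e' := congrArg (S.X₁.presheaf.germ (W x ⊓ W z) y.1 ⟨y.2, hxW z⟩) e
      rw [SecHom.germ_rs, SecHom.germ_rs] at e'
      exact e'.symm⟩
  refine ⟨s, SecHom.sec_ext fun y hy => ?_⟩
  have e := congrArg (S.X₂.presheaf.germ (W ⟨y, hy⟩) y (hxW ⟨y, hy⟩)) (hm ⟨y, hy⟩)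
  rw [SecHom.germ_rs] at e
  rw [← e, ← Modules.Stalk.stalkFunctor_map_germ, ← Modules.Stalk.stalkFunctor_map_germ]
  exact congrArg _ (hs ⟨y, hy⟩)

variable [IsIntegral X]

theorem restriction_injective {Q : X.Modules} (hQ : Coh.IsCoh Q) (htf : TorSh.IsTorsionFree Q)
    {U V : X.Opens} (hVU : V ≤ U)
    (hcod : ∀ x : X, x ∈ U → x ∉ V → (2 : WithBot ℕ∞) ≤ ringKrullDim (X.presheaf.stalk x)) :
    Function.Injective (Q.presheaf.map (homOfLE hVU).op) := by
  have := hQ.1
  have hinj : ∀ x, Function.Injective (toGen Q x) := fun x => toGen_injective x fun a v ha e => by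
    haveI := htf x
    by_contra hv
    exact hv ((Module.IsTorsionFree.isSMulRegular (mem_nonZeroDivisors_of_ne_zero ha |> fun h =>
      isRegular_iff_mem_nonZeroDivisors.mpr h)) (show a • v = a • 0 by rw [e, smul_zero]))
  intro a b h
  refine SecHom.sec_ext fun z hz => hinj z ?_
  have hη : genericPoint ↥X ∈ V := by
    by_contra hn
    have h2 := hcod _ ((spec z).mem_open U.isOpen hz) hn
    rw [ringKrullDim_eq_zero_of_isField (Field.toIsField X.functionField)] at h2
    exact absurd h2 (by decide)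
  rw [toGen_germ, toGen_germ, ← TopCat.Presheaf.germ_res_apply Q.presheaf (homOfLE hVU) _ hη a,
    ← TopCat.Presheaf.germ_res_apply Q.presheaf (homOfLE hVU) _ hη b]
  exact congrArg _ h

theorem normal_of_sub [IsLocallyNoetherian X]
    (hreg : ∀ x : X, IsRegularLocalRing (X.presheaf.stalk x)) {S : ShortComplex X.Modules} (hS : S.ShortExact)
    (hE : Coh.IsCoh S.X₂) (hQ : Coh.IsCoh S.X₃) (hErefl : _root_.RefHull.IsReflexive S.X₂)
    (hQtf : TorSh.IsTorsionFree S.X₃) (U V : X.Opens) (hVU : V ≤ U)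
    (hcod : ∀ x : X, x ∈ U → x ∉ V → (2 : WithBot ℕ∞) ≤ ringKrullDim (X.presheaf.stalk x)) :
    Function.Bijective (S.X₁.presheaf.map (homOfLE hVU).op) := by
  have := hS.mono_f
  have hb := ((RegNormal.isReflexive_iff hreg hE).mp hErefl).2 U V hVU hcod
  refine ⟨fun a b h => ?_, fun n => ?_⟩
  · refine Modules.LocalSections.app_injective S.f U (hb.1 ?_)
    change rs S.X₂ hVU (S.f.app U a) = rs S.X₂ hVU (S.f.app U b)
    rw [← Modules.TensorSec.app_rs, ← Modules.TensorSec.app_rs]
    exact congrArg _ h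
  · obtain ⟨a, ha⟩ := hb.2 (S.f.app V n)
    have hga : S.g.app U a = 0 := by
      refine restriction_injective hQ hQtf hVU hcod ?_
      rw [map_zero]
      change rs S.X₃ hVU (S.g.app U a) = 0
      rw [← Modules.TensorSec.app_rs, show rs S.X₂ hVU a = S.f.app V n from ha]
      exact congr(($(S.zero)).app V n)
    obtain ⟨m, hm⟩ := exists_lift hS a hga
    refine ⟨m, Modules.LocalSections.app_injective S.f V ?_⟩
    change S.f.app V (rs S.X₁ hVU m) = _
    rw [Modules.TensorSec.app_rs, hm]
    exact ha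

end Groth.Agent.H15.NormalSub.Basic
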